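import Groth.Agent.Lib.GaExt23.ExtShGaMain
import Groth.Agent.Lib.MTRigid29.ConstS
import Groth.Agent.Lib.ConstExt19.Split
import Groth.Agent.Lib.BigSite16.ClosedImm
import Groth.Prelude.Def_TwC

/-!
# The first Ext sheaf out of a lattice vanishes

Homomorphisms out of a constant free group of finite rank are families of sections, so they lift
locally along every epimorphism of sheaves.
-/

set_option autoImplicit false
set_option linter.style.haveILetI false
set_option maxHeartbeats 800000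
set_option backward.isDefEq.respectTransparency false
set_option backward.isDefEq.respectTransparency.types false
universe u

open CategoryTheory CategoryTheory.Limits MonoidalCategory CartesianMonoidalCategory MonObj AlgebraicGeometry Opposite

noncomputable section

namespace Groth.Agent.LatExt12

open MTRigid29 DiagGL

variable {S S' : Scheme.{u}} {X : Over S} [GrpObj X] [IsCommMonObj X] {f : S' ⟶ S} {r : ℕ}
  (e : Red.bc f X ≅ TwC.const S' (Multiplicative (Fin r → ℤ)))

/-- The point of index `a` of the base change. -/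
abbrev gen (T : Over S') (a : Multiplicative (Fin r → ℤ)) : T ⟶ Red.bc f X :=
  toUnit T ≫ TwC.pt S' _ a ≫ e.inv

/-- The point of index `a` of the group over a scheme mapping to the chart. -/
def pX {U : Over S} (t : U.left ⟶ S') (ht : t ≫ f = U.hom) (a : Multiplicative (Fin r → ℤ)) : U ⟶ X :=
  (Over.homMk (𝟙 U.left) (by simpa using ht) : U ⟶ (Over.map f).obj (Over.mk t)) ≫ fl f X (gen e (Over.mk t) a)

theorem pX_left {U : Over S} (t : U.left ⟶ S') (ht : t ≫ f = U.hom) (a : Multiplicative (Fin r → ℤ)) :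
    (pX e t ht a).left = t ≫ (TwC.pt S' _ a ≫ e.inv).left ≫ pullback.fst X.hom f := by
  show 𝟙 _ ≫ (fl f X (gen e (Over.mk t) a)).left = _
  rw [Category.id_comp, ConstExt19.fl_left]
  show ((toUnit (Over.mk t)).left ≫ _) ≫ _ = _
  rw [Category.assoc]
  rfl

theorem comp_pX {U V : Over S} (g : V ⟶ U) (t : U.left ⟶ S') (ht : t ≫ f = U.hom) (t' : V.left ⟶ S')
    (ht' : t' ≫ f = V.hom) (h : g.left ≫ t = t') (a : Multiplicative (Fin r → ℤ)) :
    g ≫ pX e t ht a = pX e t' ht' a := by
  refine Over.OverMorphism.ext ?_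
  rw [Over.comp_left, pX_left, pX_left, ← h, Category.assoc]

theorem pX_mul (he : TwC.IsConstGrp (Multiplicative (Fin r → ℤ)) (Red.bc f X) e) {U : Over S} (t : U.left ⟶ S')
    (ht : t ≫ f = U.hom) (a b : Multiplicative (Fin r → ℤ)) : pX e t ht (a * b) = pX e t ht a * pX e t ht b := by
  show _ ≫ fl f X (toUnit _ ≫ TwC.pt S' _ (a * b) ≫ e.inv) = _
  rw [← he a b, MonObj.comp_mul, fl_mul, MonObj.comp_mul]
  rfl

/-- Two points of different index differ on a nonempty scheme. -/
theorem eq_of_pX_eq {U : Over S} [Nonempty U.left] (t : U.left ⟶ S') (ht : t ≫ f = U.hom)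
    {a b : Multiplicative (Fin r → ℤ)} (h : pX e t ht a = pX e t ht b) : a = b := by
  have h' : toUnit (Over.mk t) ≫ TwC.pt S' _ a ≫ e.inv = toUnit (Over.mk t) ≫ TwC.pt S' _ b ≫ e.inv :=
    fl_injective f X ((cancel_epi (Over.homMk (𝟙 U.left) (by simpa using ht) : U ⟶ (Over.map f).obj (Over.mk t))).1 h
      )
  rw [← Category.assoc, ← Category.assoc, cancel_mono] at h'
  let z : (Over.mk t).left := Classical.arbitrary U.left
  have hb := piece_toUnit_pt (S := S') (T := Over.mk t) b z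
  rw [← h'] at hb
  exact eq_of_mem_piece _ (piece_toUnit_pt (S := S') (T := Over.mk t) a z) hb

omit [GrpObj X] [IsCommMonObj X] e in
/-- A point of a form of a constant scheme is locally a point of given index. -/
theorem exists_index {G : Over S'} {J : Type} [Small.{u} J] (E : G ≅ TwC.const S' J) {T : Over S'} (y : T ⟶ G)
    (z : T.left) : ∃ (W : T.left.Opens) (a : J), z ∈ W ∧
      W.ι ≫ y.left = (W.ι ≫ T.hom) ≫ (TwC.pt S' J a ≫ E.inv).left := by
  obtain ⟨a, ha⟩ := mem_piece_self (y ≫ E.hom) z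
  refine ⟨piece (y ≫ E.hom) a, a, ha, ?_⟩
  have h : openIncl (piece (y ≫ E.hom) a) ≫ y = toUnit _ ≫ TwC.pt S' J a ≫ E.inv := by
    rw [← Category.assoc (toUnit _), ← openIncl_comp (y ≫ E.hom) a _ le_rfl]
    simp
  exact congrArg Over.Hom.left h

/-- Every point is locally one of the points of given index. -/
theorem exists_pX {U : Over S} (t : U.left ⟶ S') (ht : t ≫ f = U.hom) (x : U ⟶ X) (z : U.left) :
    ∃ (W : U.left.Opens) (a : Multiplicative (Fin r → ℤ)), z ∈ W ∧ W.ι ≫ x.left = W.ι ≫ (pX e t ht a).left := by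
  let x' : Over.mk t ⟶ Red.bc f X :=
    Over.homMk (pullback.lift x.left t (by rw [Over.w x, ht])) (pullback.lift_snd _ _ _)
  obtain ⟨W, a, hz, h1⟩ := exists_index (G := Red.bc f X) (T := Over.mk t) e x' z
  refine ⟨W, a, hz, ?_⟩
  have h2 : x'.left ≫ pullback.fst X.hom f = x.left := pullback.lift_fst _ _ _
  have h3 := congrArg (fun q => q ≫ pullback.fst X.hom f) h1
  simp only [Category.assoc] at h3
  rw [pX_left, ← h2]
  exact h3

variable (he : TwC.IsConstGrp (Multiplicative (Fin r → ℤ)) (Red.bc f X) e)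

/-- The constant coefficients. -/
abbrev coef (r : ℕ) : AddCommGrpCat.{u + 1} := AddCommGrpCat.of (ULift.{u + 1} (Fin r → ℤ))

/-- The constant presheaf maps to the points of the lattice on the slice. -/
def cU {U : Over S} (t : U.left ⟶ S') (ht : t ≫ f = U.hom) :
    (Functor.const (Over U)ᵒᵖ).obj (coef.{u} r) ⟶ ((CGrpSh.pts Scheme.fppfPrecoverage X).over U).obj where
  app V := AddCommGrpCat.ofHom <| AddMonoidHom.mk'
    (fun a => (ULift.up (Additive.ofMul (pX e (V.unop.hom.left ≫ t)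
      (show (V.unop.hom.left ≫ t) ≫ f = V.unop.left.hom by rw [Category.assoc, ht, Over.w]) (Multiplicative.ofAdd a.down))) :
        ULift.{u + 1} (Additive (V.unop.left ⟶ X))))
    fun a b => ULift.ext _ _ (congrArg Additive.ofMul (pX_mul e he _ _ _ _))
  naturality V W g := AddCommGrpCat.ext fun a =>
    ULift.ext _ _ (congrArg Additive.ofMul (comp_pX e g.unop.left (V.unop.hom.left ≫ t)
      (show (V.unop.hom.left ≫ t) ≫ f = V.unop.left.hom by rw [Category.assoc, ht, Over.w]) (W.unop.hom.left ≫ t)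
      (show (W.unop.hom.left ≫ t) ≫ f = W.unop.left.hom by rw [Category.assoc, ht, Over.w]) (by
      rw [← Category.assoc, ← Over.comp_left, Over.w]) _).symm)

theorem W_cU {U : Over S} (t : U.left ⟶ S') (ht : t ≫ f = U.hom) :
    ((QuotSh.J Scheme.fppfPrecoverage S).over U).W (cU e he t ht) := by
  haveI : Presheaf.IsLocallyInjective ((QuotSh.J Scheme.fppfPrecoverage S).over U) (cU e he t ht) := by
    refine ⟨fun {V} a b h => ?_⟩
    rw [GrothendieckTopology.mem_over_iff]
    have hV : (V.unop.hom.left ≫ t) ≫ f = V.unop.left.hom := by rw [Category.assoc, ht, Over.w]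
    have h' : pX e (V.unop.hom.left ≫ t) hV (Multiplicative.ofAdd a.down) = pX e (V.unop.hom.left ≫ t) hV
        (Multiplicative.ofAdd b.down) := congrArg (fun z => (ULift.down z).toMul) h
    refine BigSite16.ClosedImm.mem_J_of_points _ fun z => ?_
    haveI : Nonempty V.unop.left.left := ⟨z⟩
    obtain rfl : a = b := ULift.ext _ _ (Multiplicative.ofAdd.injective (eq_of_pX_eq e _ _ h'))
    refine ⟨_, 𝟙 _, ⟨inferInstance, inferInstance⟩, ⟨z, rfl⟩, ?_⟩
    rw [Sieve.overEquiv_iff]
    rfl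
  haveI : Presheaf.IsLocallySurjective ((QuotSh.J Scheme.fppfPrecoverage S).over U) (cU e he t ht) := by
    refine ⟨fun {V} y => ?_⟩
    rw [GrothendieckTopology.mem_over_iff]
    refine BigSite16.ClosedImm.mem_J_of_points _ fun z => ?_
    obtain ⟨W, a, hz, ha⟩ := exists_pX e (V.hom.left ≫ t) (by rw [Category.assoc, ht, Over.w]) y.down.toMul z
    refine ⟨_, W.ι, ⟨inferInstance, inferInstance⟩, ⟨⟨z, hz⟩, rfl⟩, ?_⟩
    rw [Sieve.overEquiv_iff]
    refine ⟨ULift.up (Multiplicative.toAdd a), ULift.ext _ _ (congrArg Additive.ofMul ?_)⟩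
    have hV : (V.hom.left ≫ t) ≫ f = V.left.hom := by rw [Category.assoc, ht, Over.w]
    let j : Over.mk (W.ι ≫ V.left.hom) ⟶ V.left := Over.homMk W.ι rfl
    refine (comp_pX e j (V.hom.left ≫ t) hV _ _ (Category.assoc _ _ _).symm a).symm.trans (Over.OverMorphism.ext ?_)
    exact ha.symm
  exact ((QuotSh.J Scheme.fppfPrecoverage S).over U).W_of_isLocallyBijective _

include e he

variable {I Q : BigSite.Ab Scheme.fppfPrecoverage S}

/-- A family of sections as a map from the constant presheaf. -/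
def psi {W : Over S} (β : (Fin r → ℤ) →+ I.obj.obj (op W)) :
    (Functor.const (Over W)ᵒᵖ).obj (coef.{u} r) ⟶ (I.over W).obj where
  app V := AddCommGrpCat.ofHom (((I.obj.map V.unop.hom.op).hom.comp β).comp
      (AddEquiv.ulift : ULift.{u + 1} (Fin r → ℤ) ≃+ _).toAddMonoidHom)
  naturality V V' h := AddCommGrpCat.ext fun a => by
    show I.obj.map V'.unop.hom.op (β a.down) = I.obj.map h.unop.left.op (I.obj.map V.unop.hom.op (β a.down))
    rw [← ConcreteCategory.comp_apply, ← Functor.map_comp, ← op_comp, Over.w]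

omit [GrpObj X] [IsCommMonObj X] e he in
/-- Maps out of the constant presheaf agree when they agree on the basis over the final object. -/
theorem const_hom_ext {W : Over S} {F : (Over W)ᵒᵖ ⥤ AddCommGrpCat.{u + 1}}
    {u₁ u₂ : (Functor.const (Over W)ᵒᵖ).obj (coef.{u} r) ⟶ F}
    (h : ∀ i : Fin r, u₁.app (op (Over.mk (𝟙 W))) ⟨Pi.single i 1⟩ = u₂.app (op (Over.mk (𝟙 W))) ⟨Pi.single i 1⟩) :
    u₁ = u₂ := by
  classical
  have h₀ : ((u₁.app (op (Over.mk (𝟙 W)))).hom.comp
      (AddEquiv.ulift : ULift.{u + 1} (Fin r → ℤ) ≃+ _).symm.toAddMonoidHom) =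
        ((u₂.app (op (Over.mk (𝟙 W)))).hom.comp (AddEquiv.ulift : ULift.{u + 1} (Fin r → ℤ) ≃+ _).symm.toAddMonoidHom) := by
    refine AddMonoidHom.functions_ext _ _ _ fun i n => ?_
    have hs : (Pi.single i n : Fin r → ℤ) = n • Pi.single i (1 : ℤ) := by
      rw [← Pi.single_smul, smul_eq_mul, _root_.mul_one]
    rw [hs, map_zsmul, map_zsmul]
    exact congrArg (n • ·) (h i)
  refine NatTrans.ext (funext fun V => AddCommGrpCat.ext fun a => ?_)
  obtain ⟨V⟩ := V
  let j : V ⟶ Over.mk (𝟙 W) := Over.homMk V.hom (Category.comp_id _)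
  have e1 := NatTrans.naturality_apply u₁ j.op a
  have e2 := NatTrans.naturality_apply u₂ j.op a
  exact e1.trans ((congrArg (F.map j.op) (DFunLike.congr_fun h₀ a.down)).trans e2.symm)

/-- Lifting a homomorphism from lifts of the basis values. -/
theorem exists_lift {W : Over S} (t : W.left ⟶ S') (ht : t ≫ f = W.hom) (π : I ⟶ Q)
    (χ : (CGrpSh.pts Scheme.fppfPrecoverage X).over W ⟶ Q.over W) (b : Fin r → I.obj.obj (op W))
    (hb : ∀ i, π.hom.app (op W) (b i) = (cU e he t ht ≫ χ.hom).app (op (Over.mk (𝟙 W))) ⟨Pi.single i 1⟩) :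
    ∃ φ : (CGrpSh.pts Scheme.fppfPrecoverage X).over W ⟶ I.over W,
      φ ≫ ((QuotSh.J Scheme.fppfPrecoverage S).overPullback _ W).map π = χ := by
  classical
  let β : (Fin r → ℤ) →+ I.obj.obj (op W) := ∑ i, (zmultiplesHom _ (b i)).comp (Pi.evalAddMonoidHom (fun _ => ℤ) i)
  have hβ : ∀ i, β (Pi.single i 1) = b i := fun i => by
    simp [β, Finset.sum_eq_single i, Pi.single_apply]
  obtain ⟨φ, hφ⟩ := (W_cU e he t ht (I.over W).obj (I.over W).property).2 (psi β)
  refine ⟨⟨φ⟩, Sheaf.hom_ext ((W_cU e he t ht (Q.over W).obj (Q.over W).property).1 (const_hom_ext fun i => ?_))⟩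
  refine Eq.trans ?_ (hb i)
  have h1 := congrArg (fun q => q.app (op (Over.mk (𝟙 W))) (ULift.up (Pi.single i 1))) hφ
  refine (congrArg (π.hom.app (op W)) h1).trans (congrArg (π.hom.app (op W)) ?_)
  show I.obj.map (𝟙 W).op (β (Pi.single i 1)) = b i
  rw [op_id, CategoryTheory.Functor.map_id, hβ]
  rfl

omit [GrpObj X] [IsCommMonObj X] e he in
theorem const_map_apply {U W : Over S} {F : BigSite.Ab Scheme.fppfPrecoverage S} (g : W ⟶ U)
    (ξ : (Functor.const (Over U)ᵒᵖ).obj (coef.{u} r) ⟶ (F.over U).obj) (x : coef.{u} r) :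
    ξ.app (op (Over.mk (𝟙 W ≫ g))) x = F.obj.map g.op (ξ.app (op (Over.mk (𝟙 U))) x) :=
  NatTrans.naturality_apply ξ (Over.homMk g (by simp) : Over.mk (𝟙 W ≫ g) ⟶ Over.mk (𝟙 U)).op x

omit [GrpObj X] [IsCommMonObj X] e he in
theorem overMap_app_id {U W : Over S} {F G : BigSite.Ab Scheme.fppfPrecoverage S} (g : W ⟶ U) (χ : F.over U ⟶ G.over U)
    (y : F.obj.obj (op W)) :
    (((QuotSh.J Scheme.fppfPrecoverage S).overMapPullback AddCommGrpCat.{u + 1} g).map χ).hom.app (op (Over.mk (𝟙 W))) y =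
      χ.hom.app (op (Over.mk (𝟙 W ≫ g))) y := rfl

theorem cU_restrict {U W : Over S} (g : W ⟶ U) (t : U.left ⟶ S') (ht : t ≫ f = U.hom) (hgt : (g.left ≫ t) ≫ f = W.hom)
    (x : coef.{u} r) :
    ((cU e he (g.left ≫ t) hgt).app (op (Over.mk (𝟙 W))) x : ULift.{u + 1} (Additive (W ⟶ X))) =
      ((cU e he t ht).app (op (Over.mk (𝟙 W ≫ g))) x : ULift.{u + 1} (Additive (W ⟶ X))) := by
  refine ULift.ext _ _ (congrArg Additive.ofMul ?_)
  refine (Category.id_comp _).symm.trans (comp_pX e (𝟙 W) _ _ _ _ ?_ _)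
  simp

/-- Values on points of given index are compatible with restriction. -/
theorem cU_value {U W : Over S} (g : W ⟶ U) (t : U.left ⟶ S') (ht : t ≫ f = U.hom) (hgt : (g.left ≫ t) ≫ f = W.hom)
    (χ : (CGrpSh.pts Scheme.fppfPrecoverage X).over U ⟶ Q.over U) (x : coef.{u} r) :
    (cU e he (g.left ≫ t) hgt ≫ (((QuotSh.J Scheme.fppfPrecoverage S).overMapPullback AddCommGrpCat.{u + 1} g).map χ).hom).app
        (op (Over.mk (𝟙 W))) x =
      Q.obj.map g.op ((cU e he t ht ≫ χ.hom).app (op (Over.mk (𝟙 U))) x) := by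
  rw [← const_map_apply g (cU e he t ht ≫ χ.hom) x]
  simp only [NatTrans.comp_app, ConcreteCategory.comp_apply]
  refine (overMap_app_id g χ _).trans ?_
  exact congrArg (χ.hom.app (op (Over.mk (𝟙 W ≫ g)))) (cU_restrict e he g t ht hgt x)

/-- Local liftability over a scheme mapping to a chart. -/
theorem imageSieve_mem {U : Over S} (t : U.left ⟶ S') (ht : t ≫ f = U.hom) (π : I ⟶ Q) [Epi π]
    (χ : (CGrpSh.pts Scheme.fppfPrecoverage X).over U ⟶ Q.over U) :
    Presheaf.imageSieve ((HomSh.homShFunctor (QuotSh.J Scheme.fppfPrecoverage S)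
        (CGrpSh.pts Scheme.fppfPrecoverage X)).map π).hom (U := U) χ ∈ QuotSh.J Scheme.fppfPrecoverage S U := by
  classical
  let J := QuotSh.J Scheme.fppfPrecoverage S
  haveI : Sheaf.IsLocallySurjective π := (Sheaf.isLocallySurjective_iff_epi' _ π).2 inferInstance
  let q : Fin r → Q.obj.obj (op U) := fun i => (cU e he t ht ≫ χ.hom).app (op (Over.mk (𝟙 U))) ⟨Pi.single i 1⟩
  let D : Sieve U := Finset.univ.inf fun i => Presheaf.imageSieve π.hom (q i)
  have hD : D ∈ J U := by
    refine Finset.inf_induction (p := fun R => R ∈ J U) (J.top_mem U) (fun a ha b hb => J.intersection_covering ha hb)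
      fun i _ => ?_
    exact Presheaf.imageSieve_mem J π.hom (q i)
  refine GrothendieckTopology.superset_covering _ ?_ hD
  intro W g hg
  have hg' : ∀ i, (Presheaf.imageSieve π.hom (q i)).arrows g := fun i =>
    (Finset.inf_le (f := fun i => Presheaf.imageSieve π.hom (q i)) (Finset.mem_univ i) : D ≤ _) g hg
  choose b hb using hg'
  have hgt : (g.left ≫ t) ≫ f = W.hom := by rw [Category.assoc, ht, Over.w]
  obtain ⟨φ, hφ⟩ := exists_lift e he (g.left ≫ t) hgt π ((J.overMapPullback AddCommGrpCat.{u + 1} g).map χ) b fun i => by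
    exact (hb i).trans (cU_value e he g t ht hgt χ ⟨Pi.single i 1⟩).symm
  refine ⟨φ, ?_⟩
  refine Eq.trans ?_ hφ
  show (J.overPullback _ W).map (𝟙 _) ≫ φ ≫ _ = _
  rw [CategoryTheory.Functor.map_id, Category.id_comp]

omit e he in
/-- The first Ext sheaf out of a lattice vanishes. -/
theorem isZero_extSh_one (X P : Over S) [GrpObj X] [IsCommMonObj X] [GrpObj P] [IsCommMonObj P]
    (hX : TwC.Locally S TwC.Topology.etale (fun S' f =>
      ∃ (r : ℕ) (e : Red.bc f X ≅ TwC.const S' (Multiplicative (Fin r → ℤ))),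
        TwC.IsConstGrp (Multiplicative (Fin r → ℤ)) (Red.bc f X) e)) :
    IsZero ((HomSh.extSh (QuotSh.J Scheme.fppfPrecoverage S) (CGrpSh.pts Scheme.fppfPrecoverage X) 1).obj
      (CGrpSh.pts Scheme.fppfPrecoverage P)) := by
  obtain ⟨I, Q, i, π, w, hI, hS⟩ := SiteCoh.exists_inj_seq (CGrpSh.pts Scheme.fppfPrecoverage P)
  haveI := hI
  haveI : Epi π := hS.epi_g
  let H := HomSh.homShFunctor (QuotSh.J Scheme.fppfPrecoverage S) (CGrpSh.pts Scheme.fppfPrecoverage X)
  haveI : Epi (H.map π) := by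
    rw [← Sheaf.isLocallySurjective_iff_epi']
    refine ⟨fun {U} χ => ?_⟩
    let C : Sieve U :=
      { arrows := fun {V} _ => ∃ (S' : Scheme.{u}) (f : S' ⟶ S) (r : ℕ)
          (e : Red.bc f X ≅ TwC.const S' (Multiplicative (Fin r → ℤ))) (t : V.left ⟶ S'),
          TwC.IsConstGrp (Multiplicative (Fin r → ℤ)) (Red.bc f X) e ∧ t ≫ f = V.hom
        downward_closed := by
          rintro V V' g ⟨S', f, r, e, t, he, ht⟩ h
          exact ⟨S', f, r, e, h.left ≫ t, he, by rw [Category.assoc, ht, Over.w]⟩ }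
    have hC : C ∈ QuotSh.J Scheme.fppfPrecoverage S U := by
      refine BigSite16.ClosedImm.mem_J_of_points _ fun z => ?_
      obtain ⟨S', f, hf, ⟨s', hs'⟩, r, e, he⟩ := hX (U.hom z)
      haveI := hf
      obtain ⟨p, hp, -⟩ := Scheme.Pullback.exists_preimage_pullback (f := U.hom) (g := f) z s' hs'.symm
      exact ⟨pullback U.hom f, pullback.fst _ _, ⟨inferInstance, inferInstance⟩, ⟨p, hp⟩,
        S', f, r, e, pullback.snd _ _, he, pullback.condition.symm⟩
    refine GrothendieckTopology.transitive _ hC _ ?_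
    rintro V g ⟨S', f, r, e, t, he, ht⟩
    refine GrothendieckTopology.superset_covering _ ?_ (imageSieve_mem e he t ht π
      ((HomSh.homSh (QuotSh.J Scheme.fppfPrecoverage S) (CGrpSh.pts Scheme.fppfPrecoverage X) Q).obj.map g.op χ))
    intro W d hd
    obtain ⟨z, hz⟩ := hd
    refine ⟨z, hz.trans ?_⟩
    show (H.obj Q).obj.map d.op ((H.obj Q).obj.map g.op χ) = (H.obj Q).obj.map (d ≫ g).op χ
    rw [op_comp, Functor.map_comp, ConcreteCategory.comp_apply]
  rw [HomSh.extSh_def]
  exact GaExt23.ExtSh.isZero_R1 H hS (Iso.refl _) hI inferInstance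

end Groth.Agent.LatExt12
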